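import Cfsg.Agent.H16.BR.ExtSo
import Cfsg.Agent.H748.BR.OmDefs

/-!
# HUB BR: the field `ext` for `Ω(Q)`, characteristic two

`V` a finite dimensional space over the algebraically closed field `K` of characteristic two, `q` a quadratic form with
nondegenerate polar form `B`, `ρ : G → O(q)`, `U ≤ G` a `2`-group.

* `mem_lam0_of_sq` : `Y ∈ lam B`, `Y ^ 2 = 0` implies `Y ∈ lam0 B`;
* `ext_lam` : if the fixed points of `U` in `lam0 B / scalars` are a line, it is spanned by `v0 ∧ v1`, `⟨v0, v1⟩` totally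
  singular, and `ρ z = 1 + c (v0 ∧ v1)` for all involutions `z` of `Z(U)`;
* `ext_lam_fam` : the field `ext` of `Fam`.
-/

set_option autoImplicit false
set_option linter.unusedSectionVars false

namespace Cfsg.Agent.H872.BR

open Module QuadraticMap Cfsg.Agent.H883.BR
open Cfsg.Agent.H748.BR (lam lam0 wdg wdg_apply mem_lam)

section sq

variable {K : Type*} [Field K] {V : Type*} [AddCommGroup V] [Module K V] {B : LinearMap.BilinForm K V}

theorem wdg_mem_lam (h2 : (2 : K) = 0) (hs : ∀ x y, B x y = B y x) (u v : V) : wdg B u v ∈ lam B := by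
  have hneg : ∀ a : K, -a = a := fun a => by
    have : a + a = 0 := by rw [← two_mul, h2, zero_mul]
    exact neg_eq_of_add_eq_zero_left this
  refine ⟨fun x y => ?_, fun x => ?_⟩
  · rw [wdg_apply, wdg_apply, map_sub, map_sub, map_smul, map_smul, map_smul, map_smul, LinearMap.sub_apply,
      LinearMap.smul_apply, LinearMap.smul_apply, smul_eq_mul, smul_eq_mul, smul_eq_mul, smul_eq_mul, hs x u, hs x v]
    have h := hneg (B v x * B u y - B u x * B v y)
    linear_combination -h
  · rw [wdg_apply, map_sub, map_smul, map_smul, LinearMap.sub_apply, LinearMap.smul_apply, LinearMap.smul_apply,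
      smul_eq_mul, smul_eq_mul]
    ring

theorem wdg_mem_lam0 {u v : V} (h : B u v = 0) : wdg B u v ∈ lam0 B := Submodule.subset_span ⟨u, v, h, rfl⟩

/-- elements of `lam` of square zero are in `lam0` -/
theorem mem_lam0_of_sq [FiniteDimensional K V] (h2 : (2 : K) = 0) (hs : ∀ x y, B x y = B y x)
    (hn : ∀ u : V, (∀ x, B u x = 0) → u = 0) {Y : Module.End K V} (hY : Y ∈ lam B) (hYY : Y * Y = 0) :
    Y ∈ lam0 B := by
  obtain ⟨m, hm⟩ : ∃ m, finrank K V - finrank K (LinearMap.ker Y) = m := ⟨_, rfl⟩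
  induction m using Nat.strong_induction_on generalizing Y with
  | _ m ih =>
  by_cases hY0 : Y = 0
  · rw [hY0]
    exact zero_mem _
  obtain ⟨v, hv⟩ : ∃ v, Y v ≠ 0 := by
    by_contra hcon
    push Not at hcon
    exact hY0 (LinearMap.ext hcon)
  obtain ⟨w, hw⟩ : ∃ w, B (Y v) w ≠ 0 := by
    by_contra hcon
    push Not at hcon
    exact hv (hn _ hcon)
  set a := B (Y v) w with ha
  have hYk : ∀ k, Y (Y k) = 0 := fun k => LinearMap.congr_fun hYY k
  have hort : ∀ x y, B (Y x) (Y y) = 0 := fun x y => by rw [hY.1, hYk, map_zero]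
  have hxy : B (Y v) (Y w) = 0 := hort v w
  set N := wdg B (Y v) (Y w) with hN
  have hNlam : N ∈ lam B := wdg_mem_lam h2 hs _ _
  have hNlam0 : N ∈ lam0 B := wdg_mem_lam0 hxy
  have e1 : B (Y w) v = a := by rw [hY.1, hs]
  have hN1 : N v = a • Y v := by
    rw [hN, wdg_apply, e1, hY.2, zero_smul, sub_zero]
  have hNk : ∀ k, Y k = 0 → N k = 0 := by
    intro k hk
    rw [hN, wdg_apply, hY.1, hY.1, hk, map_zero, map_zero, zero_smul, zero_smul, sub_zero]
  have hYN : Y * N = 0 := by
    refine LinearMap.ext fun k => ?_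
    rw [Module.End.mul_apply, hN, wdg_apply, map_sub, map_smul, map_smul, hYk, hYk, smul_zero, smul_zero, sub_zero]
    rfl
  have hNY : N * Y = 0 := by
    refine LinearMap.ext fun k => ?_
    rw [Module.End.mul_apply, hN, wdg_apply, hort, hort, zero_smul, zero_smul, sub_zero]
    rfl
  have hNN : N * N = 0 := by
    refine LinearMap.ext fun k => ?_
    rw [Module.End.mul_apply, hN, wdg_apply B (Y v) (Y w) k, map_sub, map_smul, map_smul, wdg_apply, wdg_apply, hort, hort,
      hort, hort]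
    simp
  have hY' : Y - a⁻¹ • N ∈ lam B := Submodule.sub_mem _ hY (Submodule.smul_mem _ _ hNlam)
  have hYY' : (Y - a⁻¹ • N) * (Y - a⁻¹ • N) = 0 := by
    rw [sub_mul, mul_sub, mul_sub, hYY, smul_mul_smul_comm, hNN, mul_smul_comm, smul_mul_assoc, hYN, hNY]
    simp
  have hker : LinearMap.ker Y < LinearMap.ker (Y - a⁻¹ • N) := by
    refine lt_of_le_of_ne (fun k hk => ?_) fun h => ?_
    · rw [LinearMap.mem_ker] at hk ⊢
      rw [LinearMap.sub_apply, LinearMap.smul_apply, hk, hNk k hk, smul_zero, sub_zero]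
    · have h1 : v ∈ LinearMap.ker (Y - a⁻¹ • N) := by
        rw [LinearMap.mem_ker, LinearMap.sub_apply, LinearMap.smul_apply, hN1, smul_smul, inv_mul_cancel₀ hw, one_smul,
          sub_self]
      rw [← h, LinearMap.mem_ker] at h1
      exact hv h1
  have h3 := Submodule.finrank_lt_finrank_of_lt hker
  have h4 := Submodule.finrank_le (LinearMap.ker (Y - a⁻¹ • N))
  have h5 := ih _ (by omega) hY' hYY' rfl
  have h6 : Y = (Y - a⁻¹ • N) + a⁻¹ • N := by abel
  rw [h6]
  exact Submodule.add_mem _ h5 (Submodule.smul_mem _ _ hNlam0)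

end sq

section main

open Cfsg.Agent.H16.BR (wd wd_apply wd_add wd_smul wd_swap wd_self of_wd_eq_zero wd_mul_self exists_fix_mod rho_inv adj
  ad_wd exists_orth mem_orth)

universe u v w

variable {K : Type u} {V : Type v} [Field K] [AddCommGroup V] [Module K V] [FiniteDimensional K V]
  {B : LinearMap.BilinForm K V} {q : QuadraticForm K V} {G : Type w} [Group G] {ρ : G →* Module.End K V}

theorem exists_orth2 (h5 : 5 ≤ finrank K V) (u v : V) {S : Submodule K V} (hS : finrank K S ≤ 2) :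
    ¬ LinearMap.ker ((B u).prod (B v)) ≤ S := by
  intro h
  have h1 := LinearMap.finrank_range_add_finrank_ker ((B u).prod (B v))
  have h2 : finrank K (LinearMap.range ((B u).prod (B v))) ≤ 2 := by
    refine (Submodule.finrank_le _).trans ?_
    rw [Module.finrank_prod, Module.finrank_self]
  have h4 := (Submodule.finrank_mono h).trans hS
  omega

/-- **the fixed line of `U` in `lam0 / scalars`** -/
theorem ext_lam [IsAlgClosed K] [CharP K 2] (h6 : 6 ≤ finrank K V)
    (hq : ∀ x y, polar q x y = B x y) (hn : ∀ u : V, (∀ x, B u x = 0) → u = 0) [Finite G]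
    (hρ : ∀ g v, q (ρ g v) = q v) (hinj : Function.Injective ρ) {U : Subgroup G}
    (hU : IsPGroup 2 U) {w0 : Module.End K V}
    (hfix : ∀ X ∈ lam0 B, (∀ u ∈ U, ∃ s : K, ad ρ u X - X = s • 1) → ∃ c s : K, X = c • w0 + s • 1) :
    ∃ v0 v1 : V, B v0 v1 = 0 ∧ wd B v0 v1 ≠ 0 ∧ wd B v0 v1 * wd B v0 v1 = 0 ∧
      (∀ u ∈ U, ad ρ u (wd B v0 v1) = wd B v0 v1) ∧
      ∀ z ∈ U, z ≠ 1 → z * z = 1 → (∀ u ∈ U, u * z = z * u) → ∃ c : K, c ≠ 0 ∧ ρ z = 1 + c • wd B v0 v1 := by
  classical
  have : Fact (Nat.Prime 2) := ⟨Nat.prime_two⟩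
  have h2 : (2 : K) = 0 := CharTwo.two_eq_zero
  have hadd : ∀ a : K, a + a = 0 := fun a => by rw [← two_mul, h2, zero_mul]
  have hs : ∀ x y, B x y = B y x := fun x y => by rw [← hq, ← hq, polar_comm]
  have halt : ∀ x, B x x = 0 := fun x => by
    rw [← hq, QuadraticMap.polar_self, two_smul, hadd]
  have hQ : ∀ x y, q (x + y) = q x + q y + B x y := fun x y => by rw [← hq, ← QuadraticMap.map_add q]
  have hQs : ∀ (c : K) x, q (c • x) = c * c * q x := fun c x => by rw [QuadraticMap.map_smul, smul_eq_mul]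
  have hρB : ∀ g v w, B (ρ g v) (ρ g w) = B v w := by
    intro g v w
    have h1 := hρ g (v + w)
    rw [map_add, hQ, hQ, hρ, hρ] at h1
    exact add_left_cancel h1
  have hsqrt : ∀ a : K, ∃ t : K, t * t = a := fun a => by
    obtain ⟨t, ht⟩ := IsAlgClosed.exists_eq_mul_self a
    exact ⟨t, ht.symm⟩
  -- the space of the fixed points is a line modulo scalars
  have hline : ∀ X Y : Module.End K V, X ∈ lam0 B → (∀ u ∈ U, ad ρ u X = X) → (∀ s : K, X ≠ s • 1) → Y ∈ lam0 B →
      (∀ u ∈ U, ad ρ u Y = Y) → ∃ c s : K, Y = c • X + s • 1 := by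
    intro X Y hX1 hX2 hX0 hY1 hY2
    obtain ⟨a, s, ha⟩ := hfix X hX1 fun u hu => ⟨0, by rw [hX2 u hu, sub_self, zero_smul]⟩
    obtain ⟨b, t, hb⟩ := hfix Y hY1 fun u hu => ⟨0, by rw [hY2 u hu, sub_self, zero_smul]⟩
    have ha0 : a ≠ 0 := by
      rintro rfl
      exact hX0 s (by rw [ha, zero_smul, zero_add])
    refine ⟨b * a⁻¹, t - b * a⁻¹ * s, ?_⟩
    rw [ha, hb, smul_add, smul_smul, smul_smul, mul_assoc b, inv_mul_cancel₀ ha0, mul_one, sub_smul]
    abel
  have FIX := exists_fix_mod (K := K) (V := V) (p := 2) hU (ρ.comp U.subtype)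
  have hker : ∀ v : V, (∀ u ∈ U, ρ u v = v) → ∀ u ∈ U, ∀ x, B v x = 0 → B v (ρ u x) = 0 := by
    intro v hv u hu x hx
    have h1 : ρ u v = v := hv u hu
    rw [← h1, hρB, hx]
  have hspan : ∀ v x : V, x ∈ Submodule.span K {v} ↔ ∃ c : K, x = c • v := by
    intro v x
    rw [Submodule.mem_span_singleton]
    exact ⟨fun ⟨c, hc⟩ => ⟨c, hc.symm⟩, fun ⟨c, hc⟩ => ⟨c, hc.symm⟩⟩
  have hspanU : ∀ v : V, (∀ u ∈ U, ρ u v = v) → ∀ g : U, ∀ s ∈ Submodule.span K {v},
      (ρ.comp U.subtype) g s ∈ Submodule.span K {v} := by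
    intro v hv g s hs
    obtain ⟨c, rfl⟩ := (hspan _ _).1 hs
    change ρ (g : G) (c • v) ∈ _
    rw [map_smul, hv g g.2]
    exact (hspan _ _).2 ⟨c, rfl⟩
  have hwdf : ∀ v x : V, (∀ u ∈ U, ρ u v = v) → (∀ u ∈ U, ρ u x - x ∈ Submodule.span K {v}) →
      ∀ u ∈ U, ad ρ u (wd B v x) = wd B v x := by
    intro v x hv hx u hu
    rw [ad_wd hρB, hv u hu]
    obtain ⟨c, hc⟩ := (hspan _ _).1 (hx u hu)
    rw [sub_eq_iff_eq_add] at hc
    rw [hc, wd_add, wd_smul, wd_self, smul_zero, zero_add]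
  have hwd0 : ∀ v x : V, v ≠ 0 → x ∉ Submodule.span K {v} → wd B v x ≠ 0 := by
    intro v x hv hx h
    exact hx ((hspan _ _).2 (of_wd_eq_zero hn hv h))
  have hwdsq : ∀ v x : V, B v x = 0 → wd B v x * wd B v x = 0 := fun v x h =>
    wd_mul_self (halt v) h (by rw [hs, h]) (halt x)
  have hnt : Nontrivial V := by
    refine Module.nontrivial_of_finrank_pos (R := K) ?_
    omega
  have hone : (1 : Module.End K V) ≠ 0 := one_ne_zero
  have hwds : ∀ v x : V, B v x = 0 → ∀ s : K, wd B v x = s • 1 → wd B v x = 0 := by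
    intro v x h s hs'
    have h1 := hwdsq v x h
    rw [hs', smul_mul_smul_comm, one_mul] at h1
    rw [hs', mul_self_eq_zero.1 ((smul_eq_zero.1 h1).resolve_right hone), zero_smul]
  -- `v0`
  obtain ⟨v0, hv0, hv0f, hq0⟩ : ∃ v0 : V, v0 ≠ 0 ∧ (∀ u ∈ U, ρ u v0 = v0) ∧ q v0 = 0 := by
    obtain ⟨y, -, hy, hyf⟩ := FIX ⊥ ⊤ (by
      intro g s hs
      rw [Submodule.mem_bot] at hs ⊢
      rw [hs, map_zero]) (fun g s _ => Submodule.mem_top) (by
      rw [top_le_iff]
      exact bot_ne_top)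
    replace hy : y ≠ 0 := fun h => hy (by rw [h]; exact Submodule.zero_mem _)
    replace hyf : ∀ u ∈ U, ρ u y = y := by
      intro u hu
      have := hyf ⟨u, hu⟩
      rw [Submodule.mem_bot, sub_eq_zero] at this
      exact this
    by_cases hqy : q y = 0
    · exact ⟨y, hy, hyf, hqy⟩
    obtain ⟨x, hx, hx', hxf⟩ := FIX (Submodule.span K {y}) (LinearMap.ker ((B y).prod (B y)))
      (hspanU y hyf) (by
      intro g s hs
      rw [mem_orth] at hs ⊢
      have := hker y hyf g g.2 s hs.1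
      exact ⟨this, this⟩) (exists_orth (by omega) y y y)
    have hyx : B y x = 0 := (mem_orth.1 hx).1
    obtain ⟨t, ht⟩ := hsqrt (q x / q y)
    have hqt : q (x + t • y) = 0 := by
      rw [hQ, hQs, ht, map_smul, hs x y, hyx, smul_zero, div_mul_cancel₀ _ hqy, add_zero, hadd]
    refine ⟨x + t • y, fun h => hx' ?_, fun u hu => ?_, hqt⟩
    · rw [hspan]
      exact ⟨-t, by rw [neg_smul]; exact eq_neg_of_add_eq_zero_left h⟩
    · obtain ⟨c, hc⟩ := (hspan _ _).1 (hxf ⟨u, hu⟩)
      have hc' : ρ u (x + t • y) = (x + t • y) + c • y := by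
        have h1 : ρ u x = c • y + x := by
          rw [sub_eq_iff_eq_add] at hc
          exact hc
        rw [map_add, map_smul, hyf u hu, h1]
        abel
      have h3 := hρ u (x + t • y)
      rw [hc', hQ (x + t • y), hqt, hQs, map_smul, LinearMap.map_add₂, hs x y, hyx, LinearMap.map_smul₂, halt, smul_zero,
        add_zero, smul_zero, add_zero, zero_add] at h3
      have hc0 : c = 0 := mul_self_eq_zero.1 ((mul_eq_zero.1 h3).resolve_right hqy)
      rw [hc', hc0, zero_smul, add_zero]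
  -- `v1`
  obtain ⟨v1, hv1, hv1f, h01, hq1⟩ : ∃ v1 : V, v1 ∉ Submodule.span K {v0} ∧
      (∀ u ∈ U, ρ u v1 - v1 ∈ Submodule.span K {v0}) ∧ B v0 v1 = 0 ∧ q v1 = 0 := by
    obtain ⟨y, hy, hy', hyf⟩ := FIX (Submodule.span K {v0}) (LinearMap.ker ((B v0).prod (B v0)))
      (hspanU v0 hv0f) (by
      intro g s hs
      rw [mem_orth] at hs ⊢
      have := hker v0 hv0f g g.2 s hs.1
      exact ⟨this, this⟩) (exists_orth (by omega) v0 v0 v0)
    have h0y : B v0 y = 0 := (mem_orth.1 hy).1
    replace hyf : ∀ u ∈ U, ∃ c : K, ρ u y = y + c • v0 := by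
      intro u hu
      obtain ⟨c, hc⟩ := (hspan _ _).1 (hyf ⟨u, hu⟩)
      refine ⟨c, ?_⟩
      rw [sub_eq_iff_eq_add'] at hc
      exact hc
    by_cases hqy : q y = 0
    · refine ⟨y, hy', fun u hu => ?_, h0y, hqy⟩
      obtain ⟨c, hc⟩ := hyf u hu
      rw [hc, add_sub_cancel_left]
      exact (hspan _ _).2 ⟨c, rfl⟩
    have hpair : ∀ x : V, x ∈ Submodule.span K {v0, y} ↔ ∃ a b : K, x = a • v0 + b • y := by
      intro x
      rw [Submodule.mem_span_pair]
      exact ⟨fun ⟨a, b, h⟩ => ⟨a, b, h.symm⟩, fun ⟨a, b, h⟩ => ⟨a, b, h.symm⟩⟩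
    obtain ⟨x, hx, hx', hxf⟩ := FIX (Submodule.span K {v0, y}) (LinearMap.ker ((B v0).prod (B y)))
      (by
      intro g s hs
      obtain ⟨a, b, rfl⟩ := (hpair _).1 hs
      obtain ⟨c, hc⟩ := hyf g g.2
      change ρ (g : G) (a • v0 + b • y) ∈ _
      rw [map_add, map_smul, map_smul, hv0f g g.2, hc]
      exact (hpair _).2 ⟨a + b * c, b, by module⟩) (by
      intro g s hs'
      rw [mem_orth] at hs' ⊢
      refine ⟨hker v0 hv0f g g.2 s hs'.1, ?_⟩
      obtain ⟨c, hc⟩ := hyf _ (U.inv_mem g.2)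
      have h7 : B (ρ (g : G) s) y = B s (ρ (g : G)⁻¹ y) := (adj hρB (g : G) s y).symm
      change B y (ρ (g : G) s) = 0
      rw [hs, h7, hc, map_add, map_smul, smul_eq_mul, hs s y, hs s v0, hs'.1, hs'.2, mul_zero, add_zero])
      (exists_orth2 (by omega) v0 y (by
        have := finrank_span_le_card (R := K) ({v0, y} : Set V)
        refine this.trans ?_
        rw [Set.toFinset_insert, Set.toFinset_singleton]
        exact Finset.card_le_two))
    have h0x : B v0 x = 0 := (mem_orth.1 hx).1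
    have hyx : B y x = 0 := (mem_orth.1 hx).2
    obtain ⟨t, ht⟩ := hsqrt (q x / q y)
    have hqt : q (x + t • y) = 0 := by
      rw [hQ, hQs, ht, map_smul, hs x y, hyx, smul_zero, div_mul_cancel₀ _ hqy, add_zero, hadd]
    refine ⟨x + t • y, fun h => hx' ?_, fun u hu => ?_, by rw [map_add, map_smul, h0x, h0y, smul_zero, add_zero], hqt⟩
    · obtain ⟨c, hc⟩ := (hspan _ _).1 h
      rw [hpair]
      refine ⟨c, -t, ?_⟩
      rw [← hc]
      module
    · obtain ⟨a, b, hab⟩ := (hpair _).1 (hxf ⟨u, hu⟩)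
      obtain ⟨c, hc⟩ := hyf u hu
      have hc' : ρ u (x + t • y) = (x + t • y) + ((a + t * c) • v0 + b • y) := by
        have h1 : ρ u x = (a • v0 + b • y) + x := by
          rw [sub_eq_iff_eq_add] at hab
          exact hab
        rw [map_add, map_smul, hc, h1]
        module
      have hb0 : b = 0 := by
        have h3 := hρ u (x + t • y)
        have e1 : B (x + t • y) ((a + t * c) • v0 + b • y) = 0 := by
          rw [LinearMap.map_add₂, LinearMap.map_smul₂, map_add, map_add, map_smul, map_smul, map_smul, map_smul,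
            hs x v0, hs x y, hs y v0, h0x, h0y, hyx, halt]
          simp
        have e2 : q ((a + t * c) • v0 + b • y) = b * b * q y := by
          rw [hQ, hQs, hQs, hq0, map_smul, LinearMap.map_smul₂, h0y]
          simp
        rw [hc', hQ (x + t • y), hqt, e1, e2, zero_add, add_zero] at h3
        exact mul_self_eq_zero.1 ((mul_eq_zero.1 h3).resolve_right hqy)
      rw [hc', add_sub_cancel_left, hb0, zero_smul, add_zero]
      exact (hspan _ _).2 ⟨_, rfl⟩
  have h10 : B v1 v0 = 0 := by rw [hs, h01]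
  set N := wd B v0 v1 with hN
  have hN0 : N ≠ 0 := hwd0 v0 v1 hv0 hv1
  have hNsq : N * N = 0 := hwdsq v0 v1 h01
  have hNf : ∀ u ∈ U, ad ρ u N = N := hwdf v0 v1 hv0f hv1f
  have hNs : ∀ s : K, N ≠ s • 1 := fun s h => hN0 (hwds v0 v1 h01 s h)
  have hNl : N ∈ lam0 B := wdg_mem_lam0 h01
  -- the fixed elements of square zero
  have hfx : ∀ X ∈ lam0 B, (∀ u ∈ U, ad ρ u X = X) → X * X = 0 → ∃ c : K, X = c • N := by
    intro X hX hXf hXX
    obtain ⟨c, s, hcs⟩ := hline N X hNl hNf hNs hX hXf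
    refine ⟨c, ?_⟩
    have h1 : X * X = (s * s) • 1 := by
      rw [hcs]
      have e : (c • N + s • (1 : Module.End K V)) * (c • N + s • 1) =
          (c * c) • (N * N) + ((c * s + c * s) • N + (s * s) • 1) := by
        simp only [add_mul, mul_add, smul_mul_smul_comm, mul_one, one_mul]
        module
      rw [e, hNsq, hadd, smul_zero, zero_smul, zero_add, zero_add]
    rw [h1] at hXX
    rw [hcs, mul_self_eq_zero.1 ((smul_eq_zero.1 hXX).resolve_right hone), zero_smul, add_zero]
  -- the fixed vectors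
  have hfv1 : ∀ x : V, (∀ u ∈ U, ρ u x = x) → B v0 x = 0 → ∃ a b : K, x = a • v0 + b • v1 := by
    intro x hx h0x
    obtain ⟨c, hc⟩ := hfx (wd B v0 x) (wdg_mem_lam0 h0x) (hwdf v0 x hv0f fun u hu => by
      rw [hx u hu, sub_self]
      exact zero_mem _) (hwdsq v0 x h0x)
    have h1 : wd B v0 (x + (-c) • v1) = 0 := by
      rw [wd_add, wd_smul, hc, neg_smul, add_neg_cancel]
    obtain ⟨a, ha⟩ := of_wd_eq_zero hn hv0 h1
    refine ⟨a, c, ?_⟩
    rw [← ha]
    module
  have hfv : ∀ x : V, (∀ u ∈ U, ρ u x = x) → ∃ a b : K, x = a • v0 + b • v1 := by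
    intro x hx
    by_cases h0x : B v0 x = 0
    · exact hfv1 x hx h0x
    exfalso
    obtain ⟨y, hy, hy', hyf⟩ := FIX (Submodule.span K {(0 : V)}) (LinearMap.ker ((B v0).prod (B x)))
      (hspanU 0 fun u _ => map_zero _) (by
      intro g s hs'
      rw [mem_orth] at hs' ⊢
      exact ⟨hker v0 hv0f g g.2 s hs'.1, hker x hx g g.2 s hs'.2⟩) (exists_orth (by omega) v0 x 0)
    have h0y : B v0 y = 0 := (mem_orth.1 hy).1
    have hxy : B x y = 0 := (mem_orth.1 hy).2
    replace hy' : y ≠ 0 := fun h => hy' (by rw [h]; exact Submodule.zero_mem _)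
    replace hyf : ∀ u ∈ U, ρ u y = y := by
      intro u hu
      obtain ⟨c, hc⟩ := (hspan _ _).1 (hyf ⟨u, hu⟩)
      rw [smul_zero, sub_eq_zero] at hc
      exact hc
    obtain ⟨c, hc⟩ := hfx (wd B x y) (wdg_mem_lam0 hxy) (hwdf x y hx fun u hu => by
      rw [hyf u hu, sub_self]
      exact zero_mem _) (hwdsq x y hxy)
    apply hy'
    refine hn y fun z => ?_
    have h1 := congrArg (fun X : Module.End K V => B v0 (X z)) hc
    simp only [LinearMap.smul_apply, map_smul] at h1
    rw [hN, wd_apply, wd_apply, map_sub, map_sub, map_smul, map_smul, map_smul, map_smul, h0y, h01, halt, smul_zero,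
      smul_zero, smul_zero, sub_zero, sub_zero, smul_zero, smul_eq_mul] at h1
    exact (mul_eq_zero.1 h1).resolve_right h0x
  refine ⟨v0, v1, h01, hN0, hNsq, hNf, ?_⟩
  intro z hz hz1 hzz hzc
  -- `X = ρ z - 1`
  obtain ⟨X, hX⟩ : ∃ X : Module.End K V, X = ρ z - 1 := ⟨_, rfl⟩
  have hXv : ∀ v, X v = ρ z v - v := fun v => by
    rw [hX]
    rfl
  have hzi : z⁻¹ = z := inv_eq_of_mul_eq_one_left hzz
  have hXadj : ∀ v w, B (X v) w = B v (X w) := by
    intro v w
    rw [hXv, hXv, map_sub, map_sub, LinearMap.sub_apply, ← adj hρB z v w, hzi]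
  have hXX : X * X = 0 := by
    have h3 : ρ z * ρ z = 1 := by rw [← map_mul, hzz, map_one]
    rw [hX, sub_mul, mul_sub, mul_sub, h3, mul_one, one_mul, one_mul]
    have h4 : (1 : Module.End K V) - ρ z - (ρ z - 1) = (2 : K) • (1 - ρ z) := by
      rw [two_smul]
      abel
    rw [h4, h2, zero_smul]
  have hXf : ∀ u ∈ U, ad ρ u X = X := by
    intro u hu
    have h5 : u * z * u⁻¹ = z := by rw [hzc u hu, mul_inv_cancel_right]
    rw [ad_apply, hX, mul_sub, sub_mul, ← map_mul, ← map_mul, h5, mul_one, ← map_mul, mul_inv_cancel, map_one]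
  have hXq : ∀ v, q (X v) = B v (X v) := by
    intro v
    have h3 := hρ z v
    have h4 : ρ z v = v + X v := by rw [hXv]; abel
    rw [h4, hQ, add_assoc] at h3
    have h5 : q (X v) + B v (X v) = 0 := by
      have := h3.trans (add_zero (q v)).symm
      exact add_left_cancel this
    rw [eq_neg_of_add_eq_zero_left h5]
    exact neg_eq_of_add_eq_zero_left (hadd _)
  -- the functional
  have hinj2 : ∀ a b : K, a * a = b * b → a = b := by
    intro a b h
    have h3 : (a - b) * (a - b) = 0 := by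
      have : (a - b) * (a - b) = a * a - b * b - (2 : K) * (a * b - b * b) := by ring
      rw [this, h, sub_self, h2, zero_mul, sub_zero]
    exact sub_eq_zero.1 (mul_self_eq_zero.1 h3)
  choose φ hφ using fun v : V => hsqrt (B v (X v))
  let φl : V →ₗ[K] K :=
    { toFun := φ
      map_add' := by
        intro v w
        apply hinj2
        have h3 : B v (X w) + B w (X v) = 0 := by
          rw [← hXadj w v, hs (X w) v, hadd]
        have h4 : (φ v + φ w) * (φ v + φ w) = φ v * φ v + φ w * φ w + (2 : K) * (φ v * φ w) := by ring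
        rw [h4, h2, zero_mul, add_zero, hφ, hφ, hφ, map_add, map_add, LinearMap.add_apply, map_add, map_add]
        linear_combination h3
      map_smul' := by
        intro c v
        apply hinj2
        rw [hφ, RingHom.id_apply, smul_eq_mul, map_smul, map_smul, LinearMap.smul_apply, map_smul, smul_eq_mul,
          smul_eq_mul]
        linear_combination (-(c * c)) * (hφ v) }
  obtain ⟨t, ht⟩ : ∃ t : V, B t = φl := by
    have hBi : Function.Injective (B : V →ₗ[K] V →ₗ[K] K) := by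
      rw [injective_iff_map_eq_zero]
      intro a ha
      exact hn a fun x => by rw [ha]; rfl
    exact (LinearMap.injective_iff_surjective_of_finrank_eq_finrank (Subspace.dual_finrank_eq (K := K) (V := V)).symm).1
      hBi φl
  have htX : ∀ v, B t v * B t v = B v (X v) := by
    intro v
    rw [ht]
    exact hφ v
  have htf : ∀ u ∈ U, ρ u t = t := by
    intro u hu
    rw [← sub_eq_zero]
    apply hn
    intro v
    rw [LinearMap.map_sub₂, sub_eq_zero]
    apply hinj2
    have h3 : B (ρ u t) v = B t (ρ u⁻¹ v) := (adj hρB u t v).symm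
    have h4 : ρ u⁻¹ (X v) = X (ρ u⁻¹ v) := by
      have h5 := LinearMap.congr_fun (hXf u hu) v
      rw [ad_apply] at h5
      change ρ u (X (ρ u⁻¹ v)) = X v at h5
      rw [← h5]
      have h6 := rho_inv (ρ := ρ) u⁻¹ (X (ρ u⁻¹ v))
      rwa [inv_inv] at h6
    rw [h3, htX, htX, ← h4, hρB]
  obtain ⟨a, b, hab⟩ := hfv t htf
  have hXt : X t = 0 := by rw [hXv, htf z hz, sub_self]
  -- `Y = X - t ⊗ t`
  obtain ⟨T, hT⟩ : ∃ T : Module.End K V, T = (B t).smulRight t := ⟨_, rfl⟩
  have hTv : ∀ v, T v = B t v • t := fun v => by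
    rw [hT]
    rfl
  obtain ⟨Y, hY⟩ : ∃ Y : Module.End K V, Y = X - T := ⟨_, rfl⟩
  have hYv : ∀ v, Y v = X v - T v := fun v => by
    rw [hY]
    rfl
  have hYl : Y ∈ lam B := by
    refine ⟨fun v w => ?_, fun v => ?_⟩
    · rw [hYv, hYv, map_sub, map_sub, LinearMap.sub_apply, hXadj, hTv, hTv, map_smul,
        map_smul, LinearMap.smul_apply, smul_eq_mul, smul_eq_mul, hs v t]
      ring
    · rw [hYv, map_sub, LinearMap.sub_apply, hXadj, hTv, map_smul, LinearMap.smul_apply, smul_eq_mul,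
        htX, sub_self]
  have hXT : X * T = 0 := by
    refine LinearMap.ext fun v => ?_
    rw [Module.End.mul_apply, hTv, map_smul, hXt, smul_zero, LinearMap.zero_apply]
  have hTX : T * X = 0 := by
    refine LinearMap.ext fun v => ?_
    rw [Module.End.mul_apply, hTv, ← hXadj, hXt, map_zero, LinearMap.zero_apply, zero_smul, LinearMap.zero_apply]
  have hTT : T * T = 0 := by
    refine LinearMap.ext fun v => ?_
    rw [Module.End.mul_apply, hTv, hTv, map_smul, halt, smul_zero, zero_smul, LinearMap.zero_apply]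
  have hYY : Y * Y = 0 := by
    rw [hY, sub_mul, mul_sub, mul_sub, hXX, hXT, hTX, hTT]
    simp
  have hYf : ∀ u ∈ U, ad ρ u Y = Y := by
    intro u hu
    have h3 : ad ρ u T = T := by
      refine LinearMap.ext fun v => ?_
      rw [ad_apply, Module.End.mul_apply, Module.End.mul_apply, hTv, hTv, map_smul, htf u hu]
      have h4 : B t (ρ u⁻¹ v) = B (ρ u t) v := adj hρB u t v
      rw [h4, htf u hu]
    rw [hY, map_sub, hXf u hu, h3]
  obtain ⟨c, hc⟩ := hfx Y (mem_lam0_of_sq h2 hs hn hYl hYY) hYf hYY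
  -- the image of `X` is totally singular
  have hts : ∀ a b : K, q (a • v0 + b • v1) = 0 := by
    intro a b
    rw [hQ, hQs, hQs, hq0, hq1, map_smul, LinearMap.map_smul₂, h01]
    simp
  have hXi : ∀ v, q (X v) = 0 := by
    intro v
    have h3 : X v = Y v + T v := by rw [hYv]; abel
    have h4 : X v = (c * B v1 v + B t v * a) • v0 + (-(c * B v0 v) + B t v * b) • v1 := by
      rw [h3, hc, LinearMap.smul_apply, hN, wd_apply, hTv]
      nth_rewrite 2 [hab]
      module
    rw [h4, hts]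
  have ht0 : t = 0 := by
    apply hn
    intro v
    have h3 := htX v
    rw [← hXq, hXi] at h3
    exact mul_self_eq_zero.1 h3
  have hT0 : T = 0 := by
    refine LinearMap.ext fun v => ?_
    rw [hTv, ht0, smul_zero, LinearMap.zero_apply]
  rw [hY, hT0, sub_zero] at hc
  refine ⟨c, ?_, ?_⟩
  · rintro rfl
    apply hz1
    apply hinj
    rw [map_one, ← sub_eq_zero, ← hX]
    rw [zero_smul] at hc
    exact hc
  · rw [← hc, hX]
    abel

end main

end Cfsg.Agent.H872.BR
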